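import Groth.Agent.CurveH2Lib.Open
import Groth.Agent.S0088
import Groth.Agent.S0642
import Groth.Agent.NormCurveComplLib.Basic
import Groth.Agent.CurveH0Lib.Smooth
import Groth.Agent.MiscFlat6.NormalLowDim
import Groth.Agent.MultiPtLib.Branch
import Groth.Agent.SkySumLib.Cohom
import Groth.Agent.CdOneLib.CharP
import Groth.Agent.DimIneqLib.Dim
import Groth.Agent.SerreVanLib.CurveAmple
import Groth.Agent.EtShLib.GaAffine
import Groth.Agent.AlgSpRegLib.DimMaps

/-!
# No second cohomology for constant sheaves on normal affine curves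
-/

set_option autoImplicit false
set_option linter.style.haveILetI false
set_option linter.unusedSectionVars false
set_option backward.isDefEq.respectTransparency false
set_option backward.isDefEq.respectTransparency.types false
set_option synthInstance.maxHeartbeats 400000
set_option maxHeartbeats 1000000

universe u

open CategoryTheory CategoryTheory.Limits AlgebraicGeometry Opposite CategoryTheory.Abelian TopologicalSpace
open Groth.Agent Groth.Agent.EtShLib

noncomputable section

namespace CdAffineCurveLib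

theorem subsingleton_H_iso {Z : Scheme.{u}} {F G : EtCoh.Ab Z} (e : F ≅ G) (q : ℕ)
    (h : Subsingleton (EtCoh.H Z F q)) : Subsingleton (EtCoh.H Z G q) :=
  @Equiv.subsingleton _ _ ((EtCoh.HF Z q).mapIso e).addCommGroupIsoToAddEquiv.toEquiv.symm h

theorem subsingleton_H_pull {Z W : Scheme.{u}} (i : Z ⟶ W) [IsIso i] (F : EtCoh.Ab W) (q : ℕ)
    (h : Subsingleton (EtCoh.H W F q)) : Subsingleton (EtCoh.H Z ((EtCoh.pull i).obj F) q) :=
  @Function.Surjective.subsingleton _ _ _ h (Groth.Agent.S0642.result i F q).2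

variable (k : Type u) [Field k] [IsAlgClosed k]

theorem subsingleton_H_point {Z : Scheme.{u}} [IsIntegral Z] (g : Z ⟶ Spec (CommRingCat.of k))
    [LocallyOfFiniteType g] (hdim : topologicalKrullDim Z ≤ 0) (F : EtCoh.Ab Z) (q : ℕ) (hq : 1 ≤ q) :
    Subsingleton (EtCoh.H Z F q) := by
  have heq : ∀ z : Z, z = genericPoint Z := fun z => by
    by_contra hne
    have h := (DimIneqLib.chainTo_zero (genericPoint Z)).step (genericPoint_specializes z) (Ne.symm hne)
    exact absurd (h.le_dim.trans hdim) (by norm_num)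
  haveI : Subsingleton Z := ⟨fun a b => (heq a).trans (heq b).symm⟩
  haveI : IsAffine Z := by
    obtain ⟨_, ⟨U, hU, rfl⟩, hxU, -⟩ :=
      Z.isBasis_affineOpens.exists_subset_of_mem_open (Set.mem_univ (genericPoint Z)) isOpen_univ
    have hU' : IsAffineOpen (⊤ : Z.Opens) := by
      rwa [show (⊤ : Z.Opens) = U from (eq_top_iff.2 fun z _ => (heq z) ▸ hxU).symm]
    haveI : IsAffine (⊤ : Z.Opens).toScheme := hU'
    exact IsAffine.of_isIso Z.topIso.inv
  refine Groth.Agent.S0088.result Z (fun s => ?_) (fun s => ?_) F q hq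
  · rw [show ({s} : Set Z) = Set.univ from Set.eq_univ_of_forall fun z => Subsingleton.elim z s]
    exact isClosed_univ
  · exact SkySumLib.isSepClosed_residueField g s (by
      rw [show ({s} : Set Z) = Set.univ from Set.eq_univ_of_forall fun z => Subsingleton.elim z s]
      exact isClosed_univ)

theorem subsingleton_H2_charP {Z : Scheme.{u}} [IsAffine Z] (g : Z ⟶ Spec (CommRingCat.of k)) (p : ℕ)
    [Fact p.Prime] (hp : (p : k) = 0) : Subsingleton (EtCoh.H Z (EtCoh.const Z (ZMod p)) 2) := by
  have h0 : (p : Γ(Z, ⊤)) = 0 := by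
    rw [← map_natCast ((Scheme.ΓSpecIso (CommRingCat.of k)).inv ≫ g.appTop).hom p, hp, map_zero]
  obtain ⟨S, hS, h1, h2, h3⟩ := CdOneLib.kernel_artinSchreier (X := Z) p h0
  rw [← h1]
  refine subsingleton_of_forall_eq 0 fun (w : Ext.{u + 1} _ _ 2) => ?_
  haveI : Subsingleton (EtCoh.H Z S.X₂ 2) := h2 ▸ EtShLib.subsingleton_H_Ga 2 (by omega)
  haveI : Subsingleton (EtCoh.H Z S.X₃ 1) := h3 ▸ EtShLib.subsingleton_H_Ga 1 le_rfl
  obtain ⟨y, hy⟩ := Ext.covariant_sequence_exact₁ _ hS w (Subsingleton.elim (α := EtCoh.H Z S.X₂ 2) _ _) (n₀ := 1) rfl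
  rw [← hy, Subsingleton.elim (α := EtCoh.H Z S.X₃ 1) y 0, Ext.zero_comp]

theorem subsingleton_H2_prime {Z : Scheme.{u}} [IsIntegral Z] [IsAffine Z] (g : Z ⟶ Spec (CommRingCat.of k))
    [LocallyOfFiniteType g] (hnor : Pi1.IsNormalScheme Z) (hdim : topologicalKrullDim Z ≤ 1)
    (p : ℕ) [Fact p.Prime] : Subsingleton (EtCoh.H Z (EtCoh.const Z (ZMod p)) 2) := by
  by_cases h0 : topologicalKrullDim Z ≤ 0
  · exact subsingleton_H_point k g h0 _ 2 (by norm_num)
  by_cases hm : (p : k) = 0
  · exact subsingleton_H2_charP k g p hm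
  have hdim1 : topologicalKrullDim Z = 1 := by
    refine le_antisymm hdim ?_
    revert h0
    rcases topologicalKrullDim Z with _ | _ | a
    · exact fun h => absurd bot_le h
    · exact fun _ => le_top
    · intro h
      have ha : a ≠ 0 := fun e => h (by rw [e]; exact le_rfl)
      exact WithBot.coe_le_coe.2 ((Nat.cast_one (R := ℕ∞)).ge.trans (Nat.cast_le.2 (Nat.one_le_iff_ne_zero.2 ha)))
  letI : Z.Over (Spec (CommRingCat.of k)) := ⟨g⟩
  haveI : LocallyOfFiniteType (Z ↘ Spec (CommRingCat.of k)) := ‹LocallyOfFiniteType g›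
  haveI : QuasiCompact (Z ↘ Spec (CommRingCat.of k)) := (inferInstance : QuasiCompact g)
  haveI : IsSeparated (Z ↘ Spec (CommRingCat.of k)) := (inferInstance : IsSeparated g)
  have hst : ∀ x : Z, IsClosed ({x} : Set Z) → ringKrullDim (Z.presheaf.stalk x) = 1 := fun x hx =>
    MultiPtLib.ringKrullDim_stalk_closed hdim (fun T hT => by
      rw [irreducibleComponents_eq_singleton] at hT
      rw [Set.mem_singleton_iff.1 hT]
      exact ((Homeomorph.Set.univ Z).isHomeomorph.topologicalKrullDim_eq _).trans hdim1) hx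
  obtain ⟨Xc, sc, j, hj, hdense, hjs, hP, hnc, -⟩ := NormCurveComplLib.exists_completion (k := k) Z hst hnor
  letI : Xc.Over (Spec (CommRingCat.of k)) := ⟨sc⟩
  haveI := hj
  haveI : IsProper (Xc ↘ Spec (CommRingCat.of k)) := hP
  haveI : IrreducibleSpace Xc := by
    haveI : PreirreducibleSpace Xc := by
      refine ⟨?_⟩
      have h1 : IsPreirreducible (Set.range j.base) := by
        rw [← Set.image_univ]
        exact (IrreducibleSpace.isIrreducible_univ Z).2.image _ j.continuous.continuousOn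
      rw [← hdense.closure_eq]
      exact h1.closure
    exact { toNonempty := ⟨j.base (genericPoint Z)⟩ }
  haveI : IsReduced Xc := by
    haveI : ∀ x : Xc, _root_.IsReduced (Xc.presheaf.stalk x) := fun x => by
      haveI := (hnc x).1
      infer_instance
    exact isReduced_of_isReduced_stalk Xc
  haveI : IsIntegral Xc := isIntegral_of_irreducibleSpace_of_isReduced Xc
  let U : Xc.Opens := j.opensRange
  have hUne : (U : Set Xc).Nonempty := ⟨_, genericPoint Z, rfl⟩
  have hdimc : topologicalKrullDim Xc = 1 := by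
    rw [← VarDimLib.dim_open_eq (Xc ↘ Spec (CommRingCat.of k)) U hUne, ← hdim1]
    exact ((j.isOpenEmbedding.isEmbedding.toHomeomorph).isHomeomorph.topologicalKrullDim_eq _).symm
  haveI : IsLocallyNoetherian Xc := LocallyOfFiniteType.isLocallyNoetherian (Xc ↘ Spec (CommRingCat.of k))
  haveI : Smooth (Xc ↘ Spec (CommRingCat.of k)) := CurveH0Lib.smooth_of_regular k _ fun x => by
    haveI := (hnc x).1
    haveI := (hnc x).2
    exact MiscFlat6.isRegularLocalRing_of_normal_dim_le_one _ ((MiscFlat6.ringKrullDim_stalk_le Xc x).trans hdimc.le)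
  -- an affine curve is not proper
  have hU : (U : Set Xc) ≠ Set.univ := fun hU => by
    haveI : Surjective j := ⟨Set.range_eq_univ.1 hU⟩
    haveI : IsIso j := (isIso_iff_isOpenImmersion_and_epi_base j).2 ⟨inferInstance,
      (TopCat.epi_iff_surjective _).2 j.surjective⟩
    haveI : IsProper g := by
      rw [show g = j ≫ sc from hjs.symm]
      exact inferInstanceAs (IsProper (j ≫ (Xc ↘ Spec (CommRingCat.of k))))
    haveI : IsFinite g := IsFinite.iff_isProper_and_isAffineHom.2 ⟨inferInstance, inferInstance⟩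
    exact h0 ((AlgSpRegLib.topDim_le_of_lqf g).trans
      (PrimeSpectrum.topologicalKrullDim_eq_ringKrullDim k ▸ (ringKrullDim_eq_zero_of_field k).le))
  obtain ⟨hfin, hcl⟩ := SerreVanLib.proper_closed_finite k hdimc U.2.isClosed_compl fun h => by
    obtain ⟨y, hy⟩ := hUne
    exact (h.ge (Set.mem_univ y)) hy
  obtain ⟨s, hs⟩ := Set.nonempty_compl.2 hU
  haveI : Nonempty (U : Scheme.{u}) := hUne.to_subtype
  have h2 : Subsingleton (EtCoh.H (U : Scheme.{u}) (EtCoh.mu (U : Scheme.{u}) p) 2) :=
    CurveH2Lib.subsingleton_H2_mu_open k Xc hdimc U (hcl s hs) hs hfin hcl p hm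
  obtain ⟨eU⟩ := CurveH2Lib.mu_iso_const k (U.ι ≫ (Xc ↘ Spec (CommRingCat.of k))) p hm
  let i := j.isoOpensRange.hom
  exact subsingleton_H_iso (EtCore.pullConst i (ZMod p)) 2
    (subsingleton_H_pull i _ 2 (subsingleton_H_iso eU 2 h2))

end CdAffineCurveLib

end
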