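import Groth.Agent.CdAffineCurveLib.Shriek
import Groth.Agent.CdCurveLib.PushPt
import Groth.Agent.EtShLib.GenerateKilled
import Groth.Agent.EtShLib.TorsionColim
import Groth.Agent.EtShLib.TorsionOk
import Groth.Agent.EtShLib.StrataTop
import Groth.Agent.EtShLib.CechColim
import Groth.Agent.CdOneLib.Torsion

/-!
# An affine curve over an algebraically closed field has cohomological dimension one
-/

set_option autoImplicit false
set_option linter.style.haveILetI false
set_option linter.unusedSectionVars false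
set_option backward.isDefEq.respectTransparency false
set_option backward.isDefEq.respectTransparency.types false
set_option synthInstance.maxHeartbeats 400000
set_option maxHeartbeats 1000000

universe u

open CategoryTheory CategoryTheory.Limits AlgebraicGeometry Opposite CategoryTheory.Abelian
open Groth.Agent Groth.Agent.EtShLib

noncomputable section

namespace CdAffineCurveLib

attribute [local instance] EtSliceLib.pullExact

theorem cohDimLE_of_homeo {B X : Scheme.{u}} (a : B ⟶ X) [IsIntegralHom a] [UniversallyInjective a] [Surjective a]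
    {d : ℕ} (h : EtCoh.CohDimLE B d) : EtCoh.CohDimLE X d := fun F hF q hq =>
  @Function.Injective.subsingleton _ _ _ (Groth.Agent.S0642.result a F q).1
    (h _ (CdCurveLib.isTorsion_pull_map a hF) q hq)

theorem torsionBy_of_nsmul_id {X : Scheme.{u}} (n : ℕ) {F : EtCoh.Ab X} (h : n • 𝟙 F = 0) :
    TorsionBy (fun m => m = n) F :=
  torsionBy_of_killedBy fun U s => (EtTransferLib.nsmul_id_app F n U s).symm.trans
    (congrArg (fun t : F ⟶ F => t.hom.app (op U) s) h)

section Main

variable (k : Type u) [Field k] [IsAlgClosed k] {X : Scheme.{u}} [IsReduced X] [IsNoetherian X]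
  (f : X ⟶ Spec (CommRingCat.of k)) [LocallyOfFiniteType f] [IsSeparated f] (hdim : topologicalKrullDim X ≤ 1)

include f hdim in
theorem subsingleton_H2_cons (p : ℕ) [Fact p.Prime] (F : EtCoh.Ab X) (hF : IsCons (A := AddCommGrpCat.{u + 1}) FinP F)
    (h : p • 𝟙 F = 0) (hG : Good X p) : Subsingleton (EtCoh.H X F 2) := by
  obtain ⟨a, U, n, hn, φ, hφ⟩ := exists_epi_cons hF (ok := fun m => m = p)
    (torsionBy_of_nsmul_id p h) fun m hm => hm ▸ (Fact.out : p.Prime).pos
  obtain rfl : n = fun _ => p := funext fun i => (hn i).1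
  haveI := hφ
  refine subsingleton_H2_of_suppClosed (fun x => SkySumLib.isSepClosed_residueField f x.1 x.2)
    (CdCurveLib.cohDimLE_two_curve f hdim) φ ?_ ?_ ?_
  · refine isTorsion_of_killed (Fact.out : p.Prime).pos (nsmul_id_kernel φ (biproduct.hom_ext' _ _ fun i => ?_))
    rw [comp_zero, Preadditive.comp_nsmul, Category.comp_id,
      ← Category.id_comp (biproduct.ι (fun i => EtPBC.extZeroConst (U i) (ZMod p)) i), ← Preadditive.nsmul_comp,
      nsmul_id_extConst, zero_comp]
  · intro Ω _ _ ξ _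
    exact Functor.map_isZero (stk (A := AddCommGrpCat.{u + 1}) ξ) (isZero_cokernel_of_epi φ)
  · refine subsingleton_of_forall_eq 0 fun (z : Ext.{u + 1} _ _ 2) => ?_
    let G : Fin a → EtCoh.Ab X := fun i => EtPBC.extZeroConst (U i) (ZMod p)
    have hz : z = ∑ i, (z.comp (Ext.mk₀ (biproduct.π G i)) (add_zero _)).comp
        (Ext.mk₀ (biproduct.ι G i)) (add_zero _) := by
      refine Eq.trans ?_ (Finset.sum_congr rfl fun i _ => (Ext.comp_assoc_of_second_deg_zero z _ _ _).symm)
      simp only [Ext.mk₀_comp_mk₀]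
      rw [← Ext.comp_sum, ← Ext.mk₀_sum, biproduct.total, Ext.comp_mk₀_id]
    rw [hz]
    refine Finset.sum_eq_zero fun i _ => ?_
    haveI := (hn i).2
    rw [(subsingleton_H2_extConst k f hdim (U i) p hG).elim (z.comp _ (add_zero _)) 0, Ext.zero_comp]

include f hdim in
theorem subsingleton_H2_prime_killed (p : ℕ) [Fact p.Prime] (F : EtCoh.Ab X) (h : p • 𝟙 F = 0) (hG : Good X p) :
    Subsingleton (EtCoh.H X F 2) := by
  refine subsingleton_of_forall_eq 0 fun x => ?_
  haveI := isFiltered_consOver F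
  haveI := Groth.Agent.CdOneLib.preservesFilteredColimits_H (X := X) 2 (ConsOver F)
  haveI : IsFilteredOrEmpty (ConsOver F) := IsFiltered.toIsFilteredOrEmpty
  obtain ⟨hc⟩ := nonempty_isColimit_consCocone F
    (torsionBy_of_isTorsion (CdOneLib.isTorsion_of_nsmul_id p (Fact.out : p.Prime).pos h))
  obtain ⟨i, y, rfl⟩ := Concrete.isColimit_exists_rep _ (isColimitOfPreserves (EtCoh.HF X 2) hc) x
  let P := (consDiagram F).obj i
  have hP : IsCons (A := AddCommGrpCat.{u + 1}) FinP P := PresOver.isCons (F := F) i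
  let Q := cokernel (p • 𝟙 P)
  have hQ : p • 𝟙 Q = 0 := by
    rw [← cancel_epi (cokernel.π (p • 𝟙 P)), comp_zero, Preadditive.comp_nsmul, Category.comp_id,
      ← Category.id_comp (cokernel.π (p • 𝟙 P)), ← Preadditive.nsmul_comp, cokernel.condition]
  let c0 : P ⟶ F := (consCocone F).ι.app i
  have hc0 : (p • 𝟙 P) ≫ c0 = 0 := by
    rw [Preadditive.nsmul_comp, Category.id_comp, ← Category.comp_id c0, ← Preadditive.comp_nsmul, h, comp_zero]
  haveI : Subsingleton ((EtCoh.HF X 2).obj Q) := subsingleton_H2_cons k f hdim p Q (cons_cokernel _ hP hP) hQ hG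
  show (EtCoh.HF X 2).map c0 y = 0
  rw [← cokernel.π_desc (p • 𝟙 P) c0 hc0, Functor.map_comp]
  refine (ConcreteCategory.comp_apply _ _ _).trans ?_
  exact (congrArg _ (Subsingleton.elim _ 0)).trans (map_zero _)

include f hdim in
theorem subsingleton_H2_killed : ∀ (n : ℕ), 0 < n → (∀ p : ℕ, p.Prime → p ∣ n → Good X p) →
    ∀ (F : EtCoh.Ab X), n • 𝟙 F = 0 → Subsingleton (EtCoh.H X F 2) := by
  intro n
  induction n using induction_on_primes with
  | zero => exact fun h => absurd h (lt_irrefl _)
  | one =>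
    intro _ _ F h
    rw [one_smul] at h
    refine subsingleton_of_forall_eq 0 fun z => ?_
    rw [← Ext.comp_mk₀_id z, h, Ext.mk₀_zero, Ext.comp_zero]
  | prime_mul p c hp ih =>
    intro hn hG F h
    haveI := Fact.mk hp
    have hc : 0 < c := Nat.pos_of_mul_pos_left hn
    let φ : F ⟶ F := p • 𝟙 F
    let S : ShortComplex (EtCoh.Ab X) := ShortComplex.mk (kernel.ι φ) (Abelian.factorThruImage φ)
      ((cancel_mono (Abelian.image.ι φ)).1 (by rw [Category.assoc, Abelian.image.fac, kernel.condition, zero_comp]))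
    have hS : S.ShortExact :=
      { exact := by
          refine ShortComplex.exact_of_f_is_kernel _ ?_
          exact KernelFork.IsLimit.ofι' _ _ fun g hg =>
            ⟨kernel.lift φ g (by rw [← Abelian.image.fac φ, ← Category.assoc, hg, zero_comp]), kernel.lift_ι _ _ _⟩
        mono_f := inferInstanceAs (Mono (kernel.ι φ))
        epi_g := inferInstanceAs (Epi (Abelian.factorThruImage φ)) }
    have hK : Subsingleton (EtCoh.H X S.X₁ 2) := by
      refine subsingleton_H2_prime_killed k f hdim p _ ?_ (hG p hp (dvd_mul_right p c))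
      rw [← cancel_mono (kernel.ι φ), zero_comp, Preadditive.nsmul_comp, Category.id_comp, ← kernel.condition φ,
        Preadditive.comp_nsmul, Category.comp_id]
    have hI : Subsingleton (EtCoh.H X S.X₃ 2) := by
      refine ih hc (fun q hq hd => hG q hq (hd.trans (dvd_mul_left c p))) _ ?_
      show c • 𝟙 (Abelian.image φ) = 0
      rw [← cancel_epi (Abelian.factorThruImage φ), ← cancel_mono (Abelian.image.ι φ), comp_zero, zero_comp,
        Preadditive.comp_nsmul, Category.comp_id, Preadditive.nsmul_comp, Abelian.image.fac]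
      show c • p • 𝟙 F = 0
      rwa [← mul_smul, mul_comm]
    refine subsingleton_of_forall_eq 0 fun (z : Ext.{u + 1} _ _ 2) => ?_
    obtain ⟨w, hw⟩ := Ext.covariant_sequence_exact₂ _ hS z (hI.elim _ 0)
    rw [← hw, hK.elim w 0, Ext.zero_comp]

include f hdim in
theorem subsingleton_H2_torsion {ok : ℕ → Prop} (hok : OkSet ok) (hpos : ∀ n, ok n → 0 < n)
    (hG : ∀ p : ℕ, p.Prime → (∃ n, ok n ∧ p ∣ n) → Good X p) (F : EtCoh.Ab X) (hF : TorsionBy ok F) :
    Subsingleton (EtCoh.H X F 2) := by
  refine subsingleton_of_forall_eq 0 fun x => ?_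
  obtain ⟨J, _, _, D, c, ⟨hc⟩, hpt, hk⟩ := exists_ok_colimit hok hF
  subst hpt
  haveI := Groth.Agent.EtShLib.preservesFilteredColimits_H (X := X) 2 J
  obtain ⟨i, y, rfl⟩ := Concrete.isColimit_exists_rep _ (isColimitOfPreserves (EtCoh.HF X 2) hc) x
  obtain ⟨m, hm, hmD⟩ := hk i
  haveI : Subsingleton ((EtCoh.HF X 2).obj (D.obj i)) :=
    subsingleton_H2_killed k f hdim m (hpos m hm) (fun p hp hd => hG p hp ⟨m, hm, hd⟩) _ hmD
  exact (congrArg _ (@Subsingleton.elim _ ‹Subsingleton ((EtCoh.HF X 2).obj (D.obj i))› y 0)).trans (map_zero _)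

end Main

/-- The reduction. -/
theorem exists_red {X : Scheme.{u}} : ∃ (B : Scheme.{u}) (i : B ⟶ X),
    IsClosedImmersion i ∧ IsReduced B ∧ Surjective i := by
  obtain ⟨B, i, hi, hB, hr⟩ := exists_reduced_immersion (X := X) (E := Set.univ) isClosed_univ.isLocallyClosed
  haveI := hi
  exact ⟨B, i, IsClosedImmersion.of_isPreimmersion i (by rw [hr]; exact isClosed_univ), hB,
    ⟨Set.range_eq_univ.1 hr⟩⟩

theorem torsionBy_pull {X Y : Scheme.{u}} (f : X ⟶ Y) {ok : ℕ → Prop} {F : EtCoh.Ab Y} (hF : TorsionBy ok F) :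
    TorsionBy ok ((EtCoh.pull f).obj F) := fun Ω _ _ ξ P => by
  let e := ((stalkPull f ξ AddCommGrpCat.{u + 1}).app F).addCommGroupIsoToAddEquiv
  obtain ⟨m, hm, he⟩ := hF Ω (ξ ≫ f) (e.symm P)
  exact ⟨m, hm, e.symm.injective ((map_nsmul e.symm m P).trans (he.trans (map_zero e.symm).symm))⟩

theorem cohDimLE_one (k : Type u) [Field k] [IsAlgClosed k] {X : Scheme.{u}} [IsAffine X]
    (f : X ⟶ Spec (CommRingCat.of k)) [LocallyOfFiniteType f]
    (hdim : topologicalKrullDim X ≤ 1) : EtCoh.CohDimLE X 1 := by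
  obtain ⟨B, i, _, _, _⟩ := exists_red (X := X)
  haveI : IsAffine B := isAffine_of_isAffineHom i
  haveI : IsLocallyNoetherian B := LocallyOfFiniteType.isLocallyNoetherian (i ≫ f)
  haveI : IsNoetherian B := { }
  have hB : topologicalKrullDim B ≤ 1 := (i.isClosedEmbedding.isInducing.topologicalKrullDim_le).trans hdim
  refine cohDimLE_of_homeo i fun F hF q hq => ?_
  by_cases hq2 : 2 < q
  · exact CdCurveLib.cohDimLE_two_curve (i ≫ f) hB F hF q hq2
  obtain rfl : q = 2 := by omega
  exact subsingleton_H2_torsion k (i ≫ f) hB (ok := fun n => 0 < n) ⟨Nat.one_pos, Nat.mul_pos⟩ (fun n hn => hn)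
    (fun p hp _ => haveI := Fact.mk hp; good_of_affine k (i ≫ f) p) F (torsionBy_of_isTorsion hF)

end CdAffineCurveLib

end
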