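import Groth.Agent.EtTransferLib.PointTorsion
import Groth.Prelude.Def_EtZar
import Mathlib.CategoryTheory.Sites.LocallySurjective
import Mathlib.CategoryTheory.Abelian.RightDerived

/-!
# Vanishing of the higher direct images to the Zariski site
-/

set_option autoImplicit false
set_option linter.style.haveILetI false
set_option linter.unusedSectionVars false
set_option backward.isDefEq.respectTransparency false
set_option backward.isDefEq.respectTransparency.types false
set_option synthInstance.maxHeartbeats 400000
set_option maxHeartbeats 1000000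

universe u

open CategoryTheory CategoryTheory.Limits AlgebraicGeometry Opposite CategoryTheory.Abelian TopologicalSpace
open Groth.Agent.EtShLib EtSliceLib EtTransferLib

noncomputable section

namespace CdAffineCurveLib

variable {X : Scheme.{u}} [EtZar.ZarCont X] [(EtZar.resZar X).Additive]

/-- A derived functor of the restriction vanishes when cohomology vanishes locally. -/
theorem isZero_rightDerived_resZar (F : EtCoh.Ab X) (i : ℕ)
    (h : ∀ (U : X.Opens), ∀ x ∈ U, ∃ V : X.Opens, ∃ _ : V ≤ U, x ∈ V ∧
      Subsingleton (Ext.{u + 1} (free ((EtZar.zarToEt X).obj V)) F (i + 1))) :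
    IsZero (((EtZar.resZar X).rightDerived (i + 1)).obj F) := by
  let I := injectiveResolution F
  let K := ((EtZar.resZar X).mapHomologicalComplex (ComplexShape.up ℕ)).obj I.cocomplex
  refine IsZero.of_iso ?_ (I.isoRightDerivedObj (EtZar.resZar X) (i + 1))
  show IsZero (K.homology (i + 1))
  rw [← HomologicalComplex.exactAt_iff_isZero_homology,
    HomologicalComplex.exactAt_iff' K i (i + 1) (i + 2) (by simp) (by simp), ShortComplex.exact_iff_epi_toCycles]
  let S := K.sc' i (i + 1) (i + 2)
  haveI : Sheaf.IsLocallySurjective S.toCycles := by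
    refine ⟨fun {U} z => ?_⟩
    intro x hx
    obtain ⟨V, hVU, hxV, hV⟩ := h U x hx
    haveI : Mono S.iCycles.hom := inferInstanceAs (Mono ((sheafToPresheaf _ _).map S.iCycles))
    have hinj : ∀ W : (TopologicalSpace.Opens ↥X)ᵒᵖ, Function.Injective (S.iCycles.hom.app W) := fun W =>
      (AddCommGrpCat.mono_iff_injective _).1 inferInstance
    let W := (EtZar.zarToEt X).obj V
    let z' := S.cycles.obj.map (homOfLE hVU).op z
    let a : ToType ((I.cocomplex.X (i + 1)).obj.obj (op W)) := S.iCycles.hom.app (op V) z'
    have ha : (I.cocomplex.d (i + 1) (i + 1 + 1)).hom.app (op W) a = 0 := by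
      have e := congrArg (fun t : S.cycles ⟶ S.X₃ => t.hom.app (op V) z') S.iCycles_g
      exact e
    let R := sectRep W
    obtain ⟨f, hf'⟩ := (R.e (I.cocomplex.X (i + 1))).surjective a
    have hf : f ≫ I.cocomplex.d (i + 1) (i + 1 + 1) = 0 := (R.e _).injective (by rw [← R.nat, hf', ha, map_zero])
    have h0 : I.extMk f (i + 1 + 1) rfl hf = 0 := Subsingleton.elim _ _
    rw [I.extMk_eq_zero_iff _ _ _ _ i rfl] at h0
    obtain ⟨g, hg⟩ := h0
    refine ⟨V, homOfLE hVU, ⟨R.e _ g, ?_⟩, hxV⟩
    refine hinj (op V) ?_
    refine Eq.trans (congrArg (fun t : S.X₁ ⟶ S.X₂ => t.hom.app (op V) (R.e _ g)) S.toCycles_i) ?_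
    show (I.cocomplex.d i (i + 1)).hom.app (op W) (R.e _ g) = a
    rw [R.nat, hg, hf']
  exact Sheaf.epi_of_isLocallySurjective _

end CdAffineCurveLib

end
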