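import Groth.Agent.CdAffineCurveLib.Const
import Groth.Agent.EtShLib.Compactif
import Groth.Agent.EtShLib.JContAll
import Groth.Agent.EtShLib.ExtComp
import Groth.Agent.EtShLib.RestrPull
import Groth.Agent.EtShLib.GenerateKilled
import Groth.Agent.SkySumLib.Curve
import Groth.Agent.CdCurveLib.Field
import Groth.Agent.CovDevLib.Base
import Groth.Agent.NormalizNormalLib.Main
import Groth.Agent.NormFinVarLib.Scheme
import Groth.Agent.HurwitzLib.SmoothCurve
import Groth.Agent.AlgSpRegLib.DimMaps
import Groth.Agent.S0119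

/-!
# No second cohomology for extensions by zero on affine curves
-/

set_option autoImplicit false
set_option linter.style.haveILetI false
set_option linter.unusedSectionVars false
set_option backward.isDefEq.respectTransparency false
set_option backward.isDefEq.respectTransparency.types false
set_option synthInstance.maxHeartbeats 400000
set_option maxHeartbeats 1000000

universe u

open CategoryTheory CategoryTheory.Limits AlgebraicGeometry Opposite CategoryTheory.Abelian TopologicalSpace
open Groth.Agent Groth.Agent.EtShLib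

noncomputable section

namespace CdAffineCurveLib

variable {X : Scheme.{u}}

theorem nonempty_extConst_iso (U : X.Etale) (M : Type) [AddCommGroup M] [AlgebraicGeometry.Etale U.hom]
    [EtShriek.JCont U.hom] :
    Nonempty (EtPBC.extZeroConst U M ≅ (EtShriek.extZero U.hom).obj (EtCoh.const U.left M)) := by
  let e : (EtShriek.compEtale U.hom).obj (EtCoh.top U.left) ≅ U :=
    MorphismProperty.Over.isoMk (Iso.refl U.left) (by
      show 𝟙 _ ≫ U.hom = 𝟙 _ ≫ U.hom
      rfl)
  exact ⟨((Adjunction.leftAdjointUniq (extConstAdj U)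
    (((EtCore.constAdj U.left).comp (EtShriek.extZeroAdj U.hom)).ofNatIsoRight
      (show EtShriek.restrAlong U.hom ⋙ EtCore.gsec U.left ≅
          X.smallEtaleTopology.overPullback AddCommGrpCat.{u + 1} U ⋙
            (sheafSections (X.smallEtaleTopology.over U) AddCommGrpCat.{u + 1}).obj (op (Over.mk (𝟙 U))) from
        NatIso.ofComponents (fun N => (N.obj.mapIso e.op).symm)
          fun φ => φ.hom.naturality e.inv.op |>.symm))).app
    (AddCommGrpCat.of (ULift.{u + 1} M)) :)⟩

/-- Epimorphic up to a skyscraper. -/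
theorem subsingleton_H2_of_suppClosed [IsNoetherian X] (hsep : ∀ x : SkySumLib.Pt X, IsSepClosed (X.residueField x.1))
    (hcd : EtCoh.CohDimLE X 2) {A F : EtCoh.Ab X} (φ : A ⟶ F) (hA : EtCoh.IsTorsion (kernel φ))
    (hc : SkySumLib.SuppClosed (cokernel φ)) (h : Subsingleton (EtCoh.H X A 2)) :
    Subsingleton (EtCoh.H X F 2) := by
  let S1 : ShortComplex (EtCoh.Ab X) := ShortComplex.mk (kernel.ι φ) (Abelian.factorThruImage φ)
    ((cancel_mono (Abelian.image.ι φ)).1 (by rw [Category.assoc, Abelian.image.fac, kernel.condition, zero_comp]))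
  let S2 : ShortComplex (EtCoh.Ab X) := ShortComplex.mk (Abelian.image.ι φ) (cokernel.π φ) (kernel.condition _)
  have hS1 : S1.ShortExact :=
    { exact := by
        refine ShortComplex.exact_of_f_is_kernel _ ?_
        exact KernelFork.IsLimit.ofι' _ _ fun g hg =>
          ⟨kernel.lift φ g (by rw [← Abelian.image.fac φ, ← Category.assoc, hg, zero_comp]), kernel.lift_ι _ _ _⟩
      mono_f := inferInstanceAs (Mono (kernel.ι φ))
      epi_g := inferInstanceAs (Epi (Abelian.factorThruImage φ)) }
  have hS2 : S2.ShortExact :=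
    { exact := ShortComplex.exact_of_f_is_kernel _ (kernelIsKernel _)
      mono_f := inferInstanceAs (Mono (Abelian.image.ι φ))
      epi_g := inferInstanceAs (Epi (cokernel.π φ)) }
  refine subsingleton_of_forall_eq 0 fun (z : Ext.{u + 1} _ _ 2) => ?_
  obtain ⟨w, hw⟩ := Ext.covariant_sequence_exact₂ _ hS2 z
    ((SkySumLib.subsingleton_H hc hsep 2 (by norm_num)).elim _ 0)
  obtain ⟨v, hv⟩ := Ext.covariant_sequence_exact₃ _ hS1 w (n₁ := 3) rfl ((hcd _ hA 3 (by norm_num)).elim _ 0)
  rw [← hw, ← hv, h.elim v 0, Ext.zero_comp, Ext.zero_comp]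

theorem isTorsion_of_killed {F : EtCoh.Ab X} {n : ℕ} (hn : 0 < n) (h : n • 𝟙 F = 0) : EtCoh.IsTorsion F :=
  CdOneLib.isTorsion_of_nsmul_id n hn h

theorem nsmul_id_kernel {A F : EtCoh.Ab X} (φ : A ⟶ F) {n : ℕ} (h : n • 𝟙 A = 0) : n • 𝟙 (kernel φ) = 0 := by
  rw [← cancel_mono (kernel.ι φ), zero_comp, Preadditive.nsmul_comp, Category.id_comp,
    ← Category.comp_id (kernel.ι φ), ← Preadditive.comp_nsmul, h, comp_zero]

theorem nonempty_preF_congr' {X Y : Scheme.{u}} {a b : X ⟶ Y} (h : a = b) [LocallyOfFiniteType a]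
    [LocallyOfFiniteType b] : Nonempty (preF a ≅ preF b) := by
  subst h
  exact ⟨Iso.refl _⟩

theorem eq_of_specializes_of_map_eq {Y : Scheme.{u}} (h : Y ⟶ X) [LocallyQuasiFinite h] {y z : Y}
    (hs : y ⤳ z) (he : h.base y = h.base z) : y = z := by
  haveI : DiscreteTopology (h.base ⁻¹' {h.base z}) :=
    isDiscrete_iff_discreteTopology.1 (h.isDiscrete_preimage_singleton _)
  have h' : (⟨y, he⟩ : h.base ⁻¹' {h.base z}) ⤳ ⟨z, rfl⟩ := (subtype_specializes_iff _ _).2 hs
  exact congrArg Subtype.val h'.eq

theorem isIntegral_open_of_max [IsReduced X] [IsNoetherian X] (u : X) (hu : ∀ y : X, y ⤳ u → y = u) :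
    ∃ O : X.Opens, u ∈ O ∧ IsIntegral (O : Scheme.{u}) := by
  have hfin := NoetherianSpace.finite_irreducibleComponents (α := X)
  let S : Set (Set X) := {C | C ∈ irreducibleComponents X ∧ u ∉ C}
  have hcl : IsClosed (⋃₀ S) := by
    rw [Set.sUnion_eq_biUnion]
    exact (hfin.subset fun C hC => hC.1).isClosed_biUnion fun C hC => isClosed_of_mem_irreducibleComponents C hC.1
  let O : X.Opens := ⟨(⋃₀ S)ᶜ, hcl.isOpen_compl⟩
  have huO : u ∈ O := fun ⟨C, hC, h⟩ => hC.2 h
  have hsub : (O : Set X) ⊆ closure {u} := by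
    intro y hy
    let C := irreducibleComponent y
    have hC : u ∈ C := by
      by_contra h
      exact hy ⟨C, ⟨irreducibleComponent_mem_irreducibleComponents y, h⟩, mem_irreducibleComponent⟩
    obtain ⟨η, hη⟩ := QuasiSober.sober isIrreducible_irreducibleComponent (isClosed_irreducibleComponent (x := y))
    have : η = u := hu η (hη.specializes hC)
    rw [← this, hη.def]
    exact mem_irreducibleComponent
  haveI : IrreducibleSpace (O : Scheme.{u}) := by
    have h1 : IsIrreducible (O : Set X) := by
      refine ⟨⟨u, huO⟩, ?_⟩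
      intro a b ha hb ⟨x, hxO, hxa⟩ ⟨y, hyO, hyb⟩
      refine ⟨u, huO, ?_, ?_⟩
      · exact (specializes_iff_mem_closure.2 (hsub hxO)).mem_open ha hxa
      · exact (specializes_iff_mem_closure.2 (hsub hyO)).mem_open hb hyb
    haveI : Nonempty (O : Scheme.{u}) := ⟨⟨u, huO⟩⟩
    haveI : PreirreducibleSpace (O : Scheme.{u}) := by
      haveI : IrreducibleSpace (O : Set X) := Subtype.irreducibleSpace h1
      exact inferInstanceAs (PreirreducibleSpace (O : Set X))
    exact { toNonempty := inferInstance }
  exact ⟨O, huO, isIntegral_of_irreducibleSpace_of_isReduced _⟩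

variable (k : Type u) [Field k] [IsAlgClosed k]

theorem exists_normal_nhd_of_max [IsReduced X] (f : X ⟶ Spec (CommRingCat.of k)) [LocallyOfFiniteType f]
    [IsNoetherian X] (u : X) (hu : ∀ y : X, y ⤳ u → y = u) :
    ∃ V : X.Opens, u ∈ V ∧ IsAffineOpen V ∧ IsIntegral (V : Scheme.{u}) ∧ Pi1.IsNormalScheme (V : Scheme.{u}) := by
  haveI : LocallyOfFinitePresentation f := LocallyOfFinitePresentation.iff_locallyOfFiniteType.2 inferInstance
  obtain ⟨O, huO, hO⟩ := isIntegral_open_of_max u hu
  have hgen : genericPoint (O : Scheme.{u}) = (⟨u, huO⟩ : (O : Scheme.{u})) := by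
    refine Subtype.ext (hu _ ?_)
    exact ((genericPoint_spec (O : Scheme.{u})).specializes (Set.mem_univ (⟨u, huO⟩ : (O : Scheme.{u})))).map
      O.ι.continuous
  have hsm : u ∈ f.smoothLocus := by
    have h := (O.ι ≫ f).genericPoint_mem_smoothLocus_of_perfectField
    rw [← Scheme.Hom.preimage_smoothLocus_eq, hgen] at h
    exact h
  obtain ⟨_, ⟨V : X.Opens, hV, rfl⟩, huV, hVO⟩ := X.isBasis_affineOpens.exists_subset_of_mem_open
    (show u ∈ ((O ⊓ f.smoothLocus : X.Opens) : Set X) from ⟨huO, hsm⟩) (O ⊓ f.smoothLocus).2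
  haveI : Nonempty (V : Scheme.{u}) := ⟨⟨u, huV⟩⟩
  haveI : IsIntegral (V : Scheme.{u}) := isIntegral_of_isOpenImmersion (X.homOfLE (show V ≤ O from fun z hz => (hVO hz).1))
  letI : (V : Scheme.{u}).Over (Spec (CommRingCat.of k)) := ⟨V.ι ≫ f⟩
  haveI : Smooth ((V : Scheme.{u}) ↘ Spec (CommRingCat.of k)) := by
    show Smooth (V.ι ≫ f)
    rw [← Scheme.Hom.smoothLocus_eq_top_iff, ← Scheme.Hom.preimage_smoothLocus_eq]
    exact eq_top_iff.2 fun z _ => (hVO z.2).2
  exact ⟨V, huV, hV, inferInstance, HurwitzLib.isNormalScheme_of_smooth (k := k)⟩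

/-- Normal integral schemes finite over `X` have no second cohomology with coefficients `ℤ/p`. -/
def Good (X : Scheme.{u}) (p : ℕ) : Prop :=
  ∀ (Z : Scheme.{u}) (π : Z ⟶ X) [IsFinite π] [IsIntegral Z], Pi1.IsNormalScheme Z →
    topologicalKrullDim Z ≤ 1 → Subsingleton (EtCoh.H Z (EtCoh.const Z (ZMod p)) 2)

theorem good_of_affine [IsAffine X] (f : X ⟶ Spec (CommRingCat.of k)) [LocallyOfFiniteType f] (p : ℕ) [Fact p.Prime] :
    Good X p := fun Z π _ _ hn hd => by
  haveI : IsAffine Z := isAffine_of_isAffineHom π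
  exact subsingleton_H2_prime k (π ≫ f) hn hd p

/-- The case of an integral normal affine neighbourhood. -/
theorem subsingleton_H2_extConst_normal [IsNoetherian X] (f : X ⟶ Spec (CommRingCat.of k)) [LocallyOfFiniteType f]
    [IsSeparated f] (hdim : topologicalKrullDim X ≤ 1) (V : X.Etale) [IsAffine V.left] [IsIntegral V.left]
    (hnor : Pi1.IsNormalScheme V.left) (p : ℕ) [Fact p.Prime] (hG : Good X p) :
    Subsingleton (EtCoh.H X (EtPBC.extZeroConst V (ZMod p)) 2) := by
  let h : V.left ⟶ X := V.hom
  haveI : AlgebraicGeometry.Etale h := V.prop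
  haveI : EtShriek.JCont h := jCont _
  haveI : IsSeparated (h ≫ f) := inferInstance
  haveI : IsSeparated h := IsSeparated.of_comp h f
  haveI : QuasiCompact h := inferInstance
  haveI : LocallyQuasiFinite h := Groth.Agent.EtShLib.locallyQuasiFinite_of_etale h
  haveI : AlgebraicGeometry.Etale V.hom := V.prop
  haveI : EtShriek.JCont V.hom := jCont _
  haveI : IsSeparated V.hom := ‹IsSeparated h›
  haveI : IsLocallyNoetherian V.left := LocallyOfFiniteType.isLocallyNoetherian (h ≫ f)
  haveI : IsNoetherian V.left := { }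
  let π := h.fromNormalization
  let j := h.toNormalization
  haveI : IsOpenImmersion j := inferInstance
  haveI : IsFinite π := NormFinVarLib.isFinite_fromNormalization k f h
  haveI : IrreducibleSpace h.normalization := by
    have hd : DenseRange j.base := IsDominant.denseRange
    haveI : PreirreducibleSpace h.normalization := by
      refine ⟨?_⟩
      have h1 : IsPreirreducible (Set.range j.base) := by
        rw [← Set.image_univ]
        exact (IrreducibleSpace.isIrreducible_univ V.left).2.image _ j.continuous.continuousOn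
      rw [← hd.closure_eq]
      exact h1.closure
    exact { toNonempty := ⟨j.base (genericPoint V.left)⟩ }
  have hn : Pi1.IsNormalScheme h.normalization := by
    refine NormalizNormalLib.normalization_isNormal h hnor ?_
    haveI := (NoetherianSpace.finite_irreducibleComponents (α := V.left)).to_subtype
    exact locallyFinite_of_finite _
  haveI : IsReduced h.normalization := by
    haveI : ∀ x : h.normalization, _root_.IsReduced (h.normalization.presheaf.stalk x) := fun x => by
      haveI := (hn x).1
      infer_instance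
    exact isReduced_of_isReduced_stalk _
  haveI : IsIntegral h.normalization := isIntegral_of_irreducibleSpace_of_isReduced _
  have hdimN : topologicalKrullDim h.normalization ≤ 1 := (AlgSpRegLib.topDim_le_of_lqf π).trans hdim
  have hC := hG _ π hn hdimN
  let C := EtCoh.const h.normalization (ZMod p)
  -- extension by zero inside the normalization
  obtain ⟨er⟩ := nonempty_pull_iso_restrAlong j C
  let eC : EtCoh.const V.left (ZMod p) ≅ (EtShriek.restrAlong j).obj C := (EtCore.pullConst j (ZMod p)).symm ≪≫ er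
  haveI : IsNoetherian h.normalization := by
    haveI : IsLocallyNoetherian h.normalization := LocallyOfFiniteType.isLocallyNoetherian π
    haveI : CompactSpace h.normalization := QuasiCompact.compactSpace_of_compactSpace π
    exact { }
  have hsepN : ∀ x : SkySumLib.Pt h.normalization, IsSepClosed (h.normalization.residueField x.1) :=
    fun x => SkySumLib.isSepClosed_residueField (π ≫ f) x.1 x.2
  let ψ := (EtShriek.extZeroAdj j).counit.app C
  obtain ⟨hk, hc⟩ := SkySumLib.suppClosed_ker_coker hdimN ψ fun Ω _ _ ξ hξ => by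
    refine isIso_counit_stalk j C ξ ?_
    have hgen : ξ.base default = genericPoint h.normalization :=
      (hξ _ ⟨default, rfl⟩ _ (genericPoint_specializes _)).symm
    rw [hgen]
    exact (genericPoint_spec _).mem_open_set_iff j.opensRange.2 |>.2 ⟨_, trivial, genericPoint V.left, rfl⟩
  have hψ := (SkySumLib.bijective_map_of_suppClosed ψ hsepN hk hc).1 2 (by norm_num)
  have h1 : Subsingleton (EtCoh.H h.normalization ((EtShriek.extZero j).obj (EtCoh.const V.left (ZMod p))) 2) := by
    refine subsingleton_H_iso ((EtShriek.extZero j).mapIso eC.symm) 2 ?_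
    haveI := hψ
    exact @Function.Injective.subsingleton _ _ _ ((ConcreteCategory.isIso_iff_bijective _).1 hψ).1 hC
  -- push forward
  obtain ⟨e0⟩ := nonempty_extConst_iso V (ZMod p)
  obtain ⟨e1⟩ := nonempty_preF_congr' (h.toNormalization_fromNormalization).symm
  let e : EtPBC.extZeroConst V (ZMod p) ≅ (EtCoh.push π).obj ((EtShriek.extZero j).obj (EtCoh.const V.left (ZMod p))) :=
    e0 ≪≫ (extZeroPreIso h).app _ ≪≫ e1.app _ ≪≫ (preCompactIso j π).app _
  refine subsingleton_H_iso e.symm 2 ?_
  exact @Function.Injective.subsingleton _ _ _ (CovDevLib.bijective_mu (p := π) _ 2).1 h1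

/-- The case of an affine étale neighbourhood. -/
theorem subsingleton_H2_extConst [IsReduced X] [IsNoetherian X] (f : X ⟶ Spec (CommRingCat.of k))
    [LocallyOfFiniteType f] [IsSeparated f] (hdim : topologicalKrullDim X ≤ 1) (U : X.Etale) [IsAffine U.left]
    (p : ℕ) [Fact p.Prime] (hG : Good X p) :
    Subsingleton (EtCoh.H X (EtPBC.extZeroConst U (ZMod p)) 2) := by
  classical
  let hU' : U.left ⟶ X := U.hom
  haveI : AlgebraicGeometry.Etale hU' := U.prop
  haveI : AlgebraicGeometry.Etale U.hom := U.prop
  haveI : IsReduced U.left := by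
    haveI : ∀ x : U.left, _root_.IsReduced (U.left.presheaf.stalk x) := fun x =>
      (Groth.Agent.S0119.result hU' x).2 inferInstance
    exact isReduced_of_isReduced_stalk _
  haveI : IsLocallyNoetherian U.left := LocallyOfFiniteType.isLocallyNoetherian (hU' ≫ f)
  haveI : IsSeparated (hU' ≫ f) := inferInstance
  haveI : IsSeparated hU' := IsSeparated.of_comp hU' f
  haveI : QuasiCompact hU' := inferInstance
  haveI : LocallyQuasiFinite hU' := Groth.Agent.EtShLib.locallyQuasiFinite_of_etale hU'
  haveI : CompactSpace U.left := inferInstance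
  haveI : IsNoetherian U.left := { }
  let M := {u : U.left // ∀ y : U.left, y ⤳ u → y = u}
  haveI : Finite M := by
    haveI := (NoetherianSpace.finite_irreducibleComponents (α := U.left)).to_subtype
    refine Finite.of_injective (fun u : M => (⟨_, irreducibleComponent_mem_irreducibleComponents u.1⟩ :
      irreducibleComponents U.left)) fun u v h => ?_
    have key : ∀ w : M, IsGenericPoint w.1 (irreducibleComponent w.1) := fun w => by
      obtain ⟨η, hη⟩ := QuasiSober.sober isIrreducible_irreducibleComponent (isClosed_irreducibleComponent (x := w.1))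
      have e := w.2 η (hη.specializes mem_irreducibleComponent)
      exact (congrArg (fun z => closure ({z} : Set U.left)) e.symm).trans hη
    have e : irreducibleComponent u.1 = irreducibleComponent v.1 := congrArg Subtype.val h
    exact Subtype.ext ((key u).eq (e ▸ key v))
  choose V huV hV hVi hVn using fun u : M => exists_normal_nhd_of_max k (hU' ≫ f) u.1 u.2
  obtain ⟨m, ⟨σ⟩⟩ := Finite.exists_equiv_fin M
  let W : Fin m → X.Etale := fun i => MorphismProperty.Over.mk ⊤ ((V (σ.symm i)).ι ≫ hU')
    (inferInstance : AlgebraicGeometry.Etale ((V (σ.symm i)).ι ≫ hU'))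
  let g : ∀ i, W i ⟶ U := fun i => MorphismProperty.Over.homMk (V (σ.symm i)).ι rfl
  choose a ha using fun i => exists_extConst_hom (W i) (ZMod p) (N := EtPBC.extZeroConst U (ZMod p))
    (extConstSec U (ZMod p) ≫ (EtPBC.extZeroConst U (ZMod p)).obj.map (g i).op)
  let G : Fin m → EtCoh.Ab X := fun i => EtPBC.extZeroConst (W i) (ZMod p)
  let φ : ⨁ G ⟶ EtPBC.extZeroConst U (ZMod p) := biproduct.desc a
  refine subsingleton_H2_of_suppClosed (fun x => SkySumLib.isSepClosed_residueField f x.1 x.2)
    (CdCurveLib.cohDimLE_two_curve f hdim) φ ?_ ?_ ?_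
  · refine isTorsion_of_killed (Fact.out : p.Prime).pos (nsmul_id_kernel φ (biproduct.hom_ext' _ _ fun i => ?_))
    rw [comp_zero, Preadditive.comp_nsmul, Category.comp_id, ← Category.id_comp (biproduct.ι G i),
      ← Preadditive.nsmul_comp, nsmul_id_extConst, zero_comp]
  · refine SkySumLib.suppClosed_of_isZero_at_max hdim _ fun Ω _ _ ξ hξ => ?_
    let S := stk (A := AddCommGrpCat.{u + 1}) ξ
    haveI : Epi (S.map φ) := by
      refine Preadditive.epi_of_cancel_zero _ fun {N} h hh => ?_
      refine (existsUnique_stalk_extConst U (ZMod p) ξ fun _ => 0).unique (fun v => ?_) fun v => by simp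
      have hmax : ∀ y : U.left, y ⤳ v.pt → y = v.pt := fun y hy => by
        refine eq_of_specializes_of_map_eq hU' hy ?_
        refine hξ _ ⟨default, ?_⟩ _ (hy.map hU'.continuous)
        exact (congrArg (fun t : Spec (CommRingCat.of Ω) ⟶ X => t.base default) v.w).symm
      let u : M := ⟨v.pt, hmax⟩
      obtain ⟨i, hi⟩ := σ.symm.surjective u
      obtain ⟨v', hv'⟩ : ∃ v' : Fib ξ (W i), v'.map (g i) = v := by
        have hr : Set.range v.hom.base ⊆ Set.range (V (σ.symm i)).ι.base := by
          rintro _ ⟨z, rfl⟩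
          rw [Subsingleton.elim z default, Scheme.Opens.range_ι, hi]
          exact huV u
        refine ⟨Fib.mk (IsOpenImmersion.lift (V (σ.symm i)).ι v.hom hr) ?_, Fib.ext ?_⟩
        · show IsOpenImmersion.lift _ _ hr ≫ (V (σ.symm i)).ι ≫ U.hom = ξ
          rw [IsOpenImmersion.lift_fac_assoc]
          exact v.w
        · exact IsOpenImmersion.lift_fac _ _ hr
      have h2 : extConstSec U (ZMod p) ≫ germ ξ _ U v = extConstSec (W i) (ZMod p) ≫ germ ξ _ (W i) v' ≫ S.map (a i) := by
        rw [germ_natural, ← Category.assoc (extConstSec (W i) (ZMod p)), ha i, Category.assoc, germ_res, hv']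
      rw [← Category.assoc, h2]
      rw [show a i = biproduct.ι G i ≫ φ from (biproduct.ι_desc _ _).symm, Functor.map_comp]
      simp only [Category.assoc, hh, comp_zero]
    exact IsZero.of_iso (isZero_cokernel_of_epi _) (PreservesCokernel.iso S φ)
  · refine subsingleton_of_forall_eq 0 fun (z : Ext.{u + 1} _ _ 2) => ?_
    have hz : z = ∑ i, (z.comp (Ext.mk₀ (biproduct.π G i)) (add_zero _)).comp
        (Ext.mk₀ (biproduct.ι G i)) (add_zero _) := by
      refine Eq.trans ?_ (Finset.sum_congr rfl fun i _ => (Ext.comp_assoc_of_second_deg_zero z _ _ _).symm)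
      simp only [Ext.mk₀_comp_mk₀]
      rw [← Ext.comp_sum, ← Ext.mk₀_sum, biproduct.total, Ext.comp_mk₀_id]
    rw [hz]
    refine Finset.sum_eq_zero fun i _ => ?_
    haveI : IsAffine (W i).left := hV (σ.symm i)
    haveI : IsIntegral (W i).left := hVi (σ.symm i)
    rw [(subsingleton_H2_extConst_normal k f hdim (W i) (hVn (σ.symm i)) p hG).elim (z.comp _ (add_zero _)) 0,
      Ext.zero_comp]

end CdAffineCurveLib

end
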